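import Cfsg.Agent.Lib.ClassIndex.Basic
import Cfsg.Agent.Lib.Solvable.Maximal
import Cfsg.Agent.Lib.Transfer.Criteria
import Cfsg.Agent.Lib.PGroup.Power

/-!
# Two disjoint prime sets for the class sizes (helper76)

Every class size is a `T`-number or a `Tᶜ`-number, a largest one being a `T`-number and some class size
being a `Tᶜ`-number different from `1`: the central quotient is Frobenius with abelian kernel and complement.

* `Snum T n`: every prime divisor of `n` is in `T`
* `kernelSub`: the subgroup generated by the elements whose class size is a `Tᶜ`-number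
* `exists_frobenius`
-/

set_option autoImplicit false
set_option linter.style.haveILetI false
set_option linter.unusedSectionVars false

open Subgroup
open scoped commutatorElement Pointwise

namespace Cfsg.Agent.ClassGraph

/-- Every prime divisor of `n` lies in `T`. -/
def Snum (T : Set ℕ) (n : ℕ) : Prop := ∀ r : ℕ, r.Prime → r ∣ n → r ∈ T

theorem Snum.of_dvd {T : Set ℕ} {m n : ℕ} (h : Snum T n) (hd : m ∣ n) : Snum T m :=
  fun r hr hrm => h r hr (hrm.trans hd)

theorem Snum.coprime {T : Set ℕ} {m n : ℕ} (h : Snum T m) (h' : Snum Tᶜ n) : m.Coprime n :=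
  Nat.coprime_of_dvd fun r hr hrm hrn => h' r hr hrn (h r hr hrm)

theorem Snum.mul {T : Set ℕ} {m n : ℕ} (h : Snum T m) (h' : Snum T n) : Snum T (m * n) :=
  fun r hr hd => (hr.dvd_mul.mp hd).elim (h r hr) (h' r hr)

theorem snum_pow {T : Set ℕ} {r : ℕ} (hr : r.Prime) (hT : r ∈ T) (k : ℕ) : Snum T (r ^ k) :=
  fun q hq hd => by rwa [(Nat.prime_dvd_prime_iff_eq hq hr).mp (hq.dvd_of_dvd_pow hd)]

variable {G : Type*} [Group G]

/-- The class size. -/
noncomputable abbrev idx (g : G) : ℕ := (centralizer ({g} : Set G)).index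

theorem mem_cent {g x : G} : g ∈ centralizer ({x} : Set G) ↔ g * x = x * g :=
  mem_centralizer_singleton_iff

theorem cent_le_of_mem_zpowers {g x : G} (hx : x ∈ zpowers g) :
    centralizer ({g} : Set G) ≤ centralizer ({x} : Set G) := by
  intro a ha
  obtain ⟨n, rfl⟩ := hx
  exact mem_cent.mpr ((show Commute a g from mem_cent.mp ha).zpow_right n).eq

theorem idx_dvd_of_mem_zpowers {g x : G} (hx : x ∈ zpowers g) : idx x ∣ idx g :=
  index_dvd_of_le (cent_le_of_mem_zpowers hx)

theorem idx_eq_one_iff {g : G} : idx g = 1 ↔ g ∈ center G := by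
  rw [idx, index_eq_one, mem_center_iff]
  exact ⟨fun h a => mem_cent.mp (h ▸ mem_top a), fun h => eq_top_iff.mpr fun a _ => mem_cent.mpr (h a)⟩

theorem idx_conj [Finite G] (a g : G) : idx (a * g * a⁻¹) = idx g := by
  rw [idx, idx, ClassIndex.index_centralizer_eq, ClassIndex.index_centralizer_eq]
  refine Nat.card_congr (Equiv.subtypeEquivRight fun y => ⟨?_, ?_⟩)
  · rintro ⟨x, rfl⟩; exact ⟨x * a, by group⟩
  · rintro ⟨x, rfl⟩; exact ⟨x * a⁻¹, by group⟩

/-- A component of a product of commuting elements of coprime orders is a power of the product. -/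
theorem mem_zpowers_mul {v y : G} (h : Commute v y) (hco : (orderOf v).Coprime (orderOf y)) :
    y ∈ zpowers (v * y) := by
  have h1 : y ^ orderOf v ∈ zpowers (v * y) := by
    have h2 : (v * y) ^ orderOf v ∈ zpowers (v * y) := pow_mem (mem_zpowers _) _
    rwa [h.mul_pow, pow_orderOf_eq_one, one_mul] at h2
  exact Transfer.mem_of_pow_mem_of_coprime hco h1 (by rw [pow_orderOf_eq_one]; exact one_mem _)

variable [Finite G] {T : Set ℕ}

/-- The standing hypothesis. -/
structure Setup (G : Type*) [Group G] (T : Set ℕ) : Prop where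
  dich : ∀ g : G, Snum T (idx g) ∨ Snum Tᶜ (idx g)
  big : ∃ b : G, Snum T (idx b) ∧ ∀ g : G, idx g ≤ idx b
  bad : ∃ y : G, Snum Tᶜ (idx y) ∧ y ∉ center G

/-- A normal `T`-subgroup lies in the centralizer of an element whose class size is a `Tᶜ`-number. -/
theorem le_cent_of_snum {A : Subgroup G} [A.Normal] (hA : Snum T (Nat.card A)) {y : G}
    (hy : Snum Tᶜ (idx y)) : A ≤ centralizer ({y} : Set G) :=
  relIndex_eq_one.mp (Nat.eq_one_of_dvd_coprimes (hA.coprime hy) (relIndex_dvd_card _ _)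
    (ClassIndex.relIndex_dvd_index_of_normal_right _ A))

/-- The commutators of `y` lie in a normal `T`-subgroup. -/
theorem exists_normal_commutators (hS : Setup G T) {y : G} (hy : Snum Tᶜ (idx y)) :
    ∃ A : Subgroup G, A.Normal ∧ Snum T (Nat.card A) ∧ ∀ g : G, ⁅y, g⁆ ∈ A := by
  obtain ⟨b, hb, hmax⟩ := hS.big
  have hb1 : idx b ≠ 1 := by
    obtain ⟨y₀, -, hy₀⟩ := hS.bad
    intro h
    apply hy₀
    rw [← idx_eq_one_iff]
    have h1 := hmax y₀
    have h2 : idx y₀ ≠ 0 := index_ne_zero_of_finite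
    omega
  set B : Set G := {x | ∃ g : G, g * b * g⁻¹ = x} with hB
  set C : Set G := {x | ∃ g : G, g * y * g⁻¹ = x} with hC
  set B' : Set G := {x | ∃ g : G, g * (b * y) * g⁻¹ = x} with hB'
  have hcardB : Nat.card B = idx b := (ClassIndex.index_centralizer_eq b).symm
  have hcardB' : Nat.card B' = idx (b * y) := (ClassIndex.index_centralizer_eq (b * y)).symm
  have hco : (idx b).Coprime (idx y) := hb.coprime hy
  have hmul : ∀ x ∈ B, ∀ c ∈ C, x * c ∈ B' := by
    rintro _ ⟨g, rfl⟩ _ ⟨h, rfl⟩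
    obtain ⟨k, hk, x, hx, hkx⟩ := Solvable.exists_mul_of_coprime_index hco (h⁻¹ * g)
    rw [mem_cent] at hk hx
    refine ⟨g * x⁻¹, ?_⟩
    have hgx : g * x⁻¹ = h * k := by
      have := congrArg (fun z => h * z * x⁻¹) hkx
      simpa [mul_assoc] using this
    have e1 : x⁻¹ * b * x = b := by rw [mul_assoc, ← hx, inv_mul_cancel_left]
    have e2 : k * y * k⁻¹ = y := by rw [hk, mul_inv_cancel_right]
    calc g * x⁻¹ * (b * y) * (g * x⁻¹)⁻¹
        = g * x⁻¹ * b * (g * x⁻¹)⁻¹ * ((g * x⁻¹) * y * (g * x⁻¹)⁻¹) := by group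
      _ = g * x⁻¹ * b * (g * x⁻¹)⁻¹ * (h * (k * y * k⁻¹) * h⁻¹) := by rw [hgx]; group
      _ = g * b * g⁻¹ * (h * y * h⁻¹) := by
        rw [e2]
        congr 1
        conv_rhs => rw [← e1]
        group
  have hle : idx b ≤ idx (b * y) := by
    rw [← hcardB, ← hcardB']
    refine Nat.card_le_card_of_injective (fun x : B => (⟨(x : G) * y, hmul x x.2 y ⟨1, by group⟩⟩ : B')) ?_
    intro u v huv
    exact Subtype.ext (mul_right_cancel (congrArg Subtype.val huv))
  have hdvd : idx (b * y) ∣ idx b * idx y := by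
    have h1 : centralizer ({b} : Set G) ⊓ centralizer ({y} : Set G) ≤ centralizer ({b * y} : Set G) := by
      rintro a ⟨ha, ha'⟩
      exact mem_cent.mpr ((show Commute a b from mem_cent.mp ha).mul_right
        (show Commute a y from mem_cent.mp ha')).eq
    refine (index_dvd_of_le h1).trans (dvd_of_eq ?_)
    show (centralizer ({b} : Set G) ⊓ centralizer ({y} : Set G)).index = _
    refine le_antisymm index_inf_le (Nat.le_of_dvd (Nat.pos_of_ne_zero index_ne_zero_of_finite) ?_)
    exact hco.mul_dvd_of_dvd_of_dvd (index_dvd_of_le inf_le_left) (index_dvd_of_le inf_le_right)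
  have heq : idx (b * y) = idx b := by
    rcases hS.dich (b * y) with h | h
    · exact le_antisymm (Nat.le_of_dvd (Nat.pos_of_ne_zero index_ne_zero_of_finite)
        ((h.coprime hy).dvd_of_dvd_mul_right hdvd)) hle
    · exfalso
      have h2 : idx (b * y) ≤ idx y := Nat.le_of_dvd (Nat.pos_of_ne_zero index_ne_zero_of_finite)
        ((hb.coprime h).symm.dvd_of_dvd_mul_left hdvd)
      have h3 : idx y = idx b := le_antisymm (hmax y) (hle.trans h2)
      rw [h3, Nat.coprime_self] at hco
      exact hb1 hco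
  -- right multiplication by an element of `C` is a bijection from `B` to `B'`
  have hsurj : ∀ c ∈ C, ∀ x' ∈ B', ∃ x ∈ B, x * c = x' := by
    intro c hc x' hx'
    have hbij : Function.Bijective (fun x : B => (⟨(x : G) * c, hmul x x.2 c hc⟩ : B')) :=
      (Nat.bijective_iff_injective_and_card _).2 ⟨fun u v huv => Subtype.ext
        (mul_right_cancel (congrArg Subtype.val huv)), by rw [hcardB, hcardB', heq]⟩
    obtain ⟨x, hx⟩ := hbij.2 ⟨x', hx'⟩
    exact ⟨x, x.2, congrArg Subtype.val hx⟩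
  set A := closure {a : G | ∃ c ∈ C, ∃ d ∈ C, a = c * d⁻¹} with hA
  have hAn : A.Normal := ⟨fun n hn g => by
    have h : A ≤ A.comap (MulAut.conj g).toMonoidHom := (closure_le _).mpr (by
      rintro _ ⟨_, ⟨u, rfl⟩, _, ⟨v, rfl⟩, rfl⟩
      exact subset_closure ⟨_, ⟨g * u, rfl⟩, _, ⟨g * v, rfl⟩, by simp [mul_assoc]⟩)
    exact h hn⟩
  have hstab : ∀ a ∈ A, ∀ x ∈ B, x * a ∈ B := by
    intro a ha
    induction ha using closure_induction with
    | mem a ha =>
      obtain ⟨c, hc, d, hd, rfl⟩ := ha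
      intro x hx
      obtain ⟨x', hx', he⟩ := hsurj d hd _ (hmul x hx c hc)
      rwa [← mul_assoc, ← he, mul_inv_cancel_right]
    | one => intro x hx; rwa [mul_one]
    | mul a a' _ _ h h' => intro x hx; rw [← mul_assoc]; exact h' _ (h x hx)
    | inv a _ h =>
      intro x hx
      have hbij : Function.Bijective (fun x : B => (⟨(x : G) * a, h x x.2⟩ : B)) :=
        Finite.injective_iff_bijective.mp fun u v huv => Subtype.ext (mul_right_cancel (congrArg Subtype.val huv))
      obtain ⟨w, hw⟩ := hbij.2 ⟨x, hx⟩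
      have hw' : (w : G) * a = x := congrArg Subtype.val hw
      rw [← hw', mul_inv_cancel_right]
      exact w.2
  have hpre : (QuotientGroup.mk : G → G ⧸ A) ⁻¹' (QuotientGroup.mk '' B) = B := by
    refine Set.Subset.antisymm ?_ (Set.subset_preimage_image _ _)
    rintro x ⟨x', hx', he⟩
    have := hstab _ (QuotientGroup.eq.mp he) x' hx'
    rwa [mul_inv_cancel_left] at this
  have hcard : Nat.card A ∣ idx b := by
    rw [← hcardB, ← Nat.card_congr (Equiv.setCongr hpre),
      Nat.card_congr (QuotientGroup.preimageMkEquivSubgroupProdSet A _), Nat.card_prod]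
    exact Dvd.intro _ rfl
  refine ⟨A, hAn, hb.of_dvd hcard, fun g => subset_closure ⟨y, ⟨1, by group⟩, g * y * g⁻¹, ⟨g, rfl⟩, ?_⟩⟩
  rw [commutatorElement_def]; group

/-- A `q`-element, `q ∉ T`, whose commutators lie in a normal `T`-subgroup centralizing it, is central. -/
theorem mem_center_of_commutators {u : G} {q k : ℕ} (hq : q.Prime) (hqT : q ∉ T) (hu : orderOf u = q ^ k)
    {A : Subgroup G} (hA : Snum T (Nat.card A)) (hAu : A ≤ centralizer ({u} : Set G))
    (hmem : ∀ g : G, ⁅u, g⁆ ∈ A) : u ∈ center G := by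
  rw [mem_center_iff]
  intro g
  set a := ⁅u, g⁆ with ha
  have hcu : Commute u a := (show Commute a u from mem_cent.mp (hAu (hmem g))).symm
  have h1 : a ^ orderOf u = 1 := by
    rw [ha, ← PGroup.commutator_pow_left hcu, pow_orderOf_eq_one, commutatorElement_one_left]
  have h2 : a ^ Nat.card A = 1 := by
    exact congrArg Subtype.val (pow_card_eq_one' (x := (⟨a, hmem g⟩ : A)))
  have hco : (orderOf u).Coprime (Nat.card A) := by
    rw [hu]; exact (Snum.coprime hA (snum_pow hq hqT k)).symm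
  have h3 : a = 1 := by
    rw [← pow_one a, ← hco.gcd_eq_one]
    exact pow_gcd_eq_one.mpr ⟨h1, h2⟩
  exact (commutatorElement_eq_one_iff_mul_comm.mp h3).symm

/-- Two elements with class sizes `Tᶜ`-numbers commute. -/
theorem commute_of_bad (hS : Setup G T) {y y' : G} (hy : Snum Tᶜ (idx y)) (hy' : Snum Tᶜ (idx y')) :
    y * y' = y' * y := by
  refine mem_cent.mp (Transfer.mem_of_forall_primePow (H := centralizer ({y'} : Set G)) fun q hq u hu ⟨k, hk⟩ => ?_)
  haveI := Fact.mk hq
  have huS : Snum Tᶜ (idx u) := hy.of_dvd (idx_dvd_of_mem_zpowers hu)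
  obtain ⟨A, hAn, hA, hmem⟩ := exists_normal_commutators hS huS
  by_cases hqT : q ∈ T
  · -- a conjugate of `u` lies in `C(y')`
    obtain ⟨P⟩ : Nonempty (Sylow q (centralizer ({y'} : Set G))) := inferInstance
    obtain ⟨R, hR⟩ := (P.isPGroup'.map (centralizer ({y'} : Set G)).subtype).exists_le_sylow
    have hRle : (R : Subgroup G) ≤ centralizer ({y'} : Set G) := by
      have hcard : Nat.card (R : Subgroup G) ≤ Nat.card ((P : Subgroup _).map (centralizer ({y'} : Set G)).subtype) := by
        rw [card_subtype]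
        have hdvd : Nat.card (R : Subgroup G) ∣ Nat.card (centralizer ({y'} : Set G)) := by
          obtain ⟨j, hj⟩ := IsPGroup.iff_card.mp R.isPGroup'
          refine Nat.Coprime.dvd_of_dvd_mul_right (n := idx y') ?_ ?_
          · rw [hj]; exact ((snum_pow hq hqT j).coprime hy')
          · show _ ∣ Nat.card (centralizer ({y'} : Set G)) * (centralizer ({y'} : Set G)).index
            rw [card_mul_index]
            exact card_subgroup_dvd_card _
        obtain ⟨U, hU⟩ := (IsPGroup.iff_card (p := q)).mp R.isPGroup'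
        obtain ⟨Q, hQ⟩ := Sylow.exists_subgroup_card_pow_prime (G := centralizer ({y'} : Set G)) q (hU ▸ hdvd)
        obtain ⟨P', hP'⟩ := (IsPGroup.of_card hQ : IsPGroup q Q).exists_le_sylow
        rw [hU, ← hQ]
        exact (Nat.le_of_dvd Nat.card_pos (card_dvd_of_le hP')).trans
          (le_of_eq (Nat.card_congr (Sylow.equiv P' P).toEquiv))
      rw [← eq_of_le_of_card_ge hR hcard]
      exact map_subtype_le _
    obtain ⟨S, hS'⟩ := (IsPGroup.of_card (n := k) (by rw [Nat.card_zpowers, hk]) : IsPGroup q (zpowers u)).exists_le_sylow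
    obtain ⟨g, hg⟩ := MulAction.exists_smul_eq G S R
    have hc : g * u * g⁻¹ ∈ centralizer ({y'} : Set G) := hRle (by
      rw [← hg, Sylow.coe_subgroup_smul]
      exact smul_mem_pointwise_smul _ _ _ (hS' (mem_zpowers u)))
    have : u = ⁅u, g⁆ * (g * u * g⁻¹) * 1 := by rw [commutatorElement_def]; group
    rw [this, mul_one]
    exact mul_mem (le_cent_of_snum hA hy' (hmem g)) hc
  · exact mem_cent.mpr (mem_center_iff.mp (mem_center_of_commutators hq hqT hk hA (le_cent_of_snum hA huS) hmem) y').symm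

/-- The subgroup generated by the elements with class size a `Tᶜ`-number. -/
def kernelSub (G : Type*) [Group G] (T : Set ℕ) : Subgroup G := closure {g : G | Snum Tᶜ (idx g)}

theorem mem_kernelSub {g : G} (h : Snum Tᶜ (idx g)) : g ∈ kernelSub G T := subset_closure h

theorem center_le_kernelSub : center G ≤ kernelSub G T := fun z hz =>
  mem_kernelSub (by
    rw [idx_eq_one_iff.mpr hz]
    exact fun r hr h => absurd (Nat.dvd_one.mp h) hr.ne_one)

theorem kernelSub_normal : (kernelSub G T).Normal := ⟨fun n hn g => by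
  have h : kernelSub G T ≤ (kernelSub G T).comap (MulAut.conj g).toMonoidHom := (closure_le _).mpr fun x hx =>
    mem_kernelSub (show Snum Tᶜ (idx (g * x * g⁻¹)) by rw [idx_conj]; exact hx)
  exact h hn⟩

theorem kernelSub_comm (hS : Setup G T) {a b : G} (ha : a ∈ kernelSub G T) (hb : b ∈ kernelSub G T) :
    a * b = b * a := by
  have h1 : ∀ y, Snum Tᶜ (idx y) → kernelSub G T ≤ centralizer ({y} : Set G) := fun y hy =>
    (closure_le _).mpr fun x hx => mem_cent.mpr (commute_of_bad hS hx hy)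
  have h2 : kernelSub G T ≤ centralizer ({a} : Set G) := (closure_le _).mpr fun y hy =>
    mem_cent.mpr (mem_cent.mp (h1 y hy ha)).symm
  exact (mem_cent.mp (h2 hb)).symm

/-- A `q`-element of the kernel, `q ∉ T`, is central. -/
theorem mem_center_of_mem_kernelSub (hS : Setup G T) {u : G} (hu : u ∈ kernelSub G T) {q k : ℕ}
    (hq : q.Prime) (hqT : q ∉ T) (hk : orderOf u = q ^ k) : u ∈ center G := by
  have hall : ∀ m ∈ kernelSub G T, ∃ A : Subgroup G, A.Normal ∧ Snum T (Nat.card A) ∧ ∀ g : G, ⁅m, g⁆ ∈ A := by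
    intro m hm
    induction hm using closure_induction with
    | mem y hy => exact exists_normal_commutators hS hy
    | one =>
      refine ⟨⊥, inferInstance, ?_, fun g => by rw [commutatorElement_one_left]; exact one_mem _⟩
      rw [card_bot]; exact fun r hr h => absurd (Nat.dvd_one.mp h) hr.ne_one
    | mul a a' _ _ h h' =>
      obtain ⟨A, hAn, hA, hmA⟩ := h
      obtain ⟨A', hAn', hA', hmA'⟩ := h'
      haveI := hAn
      haveI := hAn'
      refine ⟨A ⊔ A', inferInstance, ?_, fun g => ?_⟩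
      · refine (hA.mul hA').of_dvd ?_
        have h := relIndex_mul_relIndex ⊥ A (A ⊔ A') bot_le le_sup_left
        rw [relIndex_bot_left, relIndex_bot_left, relIndex_sup_left] at h
        rw [← h]
        exact mul_dvd_mul_left _ (relIndex_dvd_card A A')
      · rw [commutatorElement_mul_left_eq_conj_mul]
        exact mul_mem (mem_sup_right (hAn'.conj_mem _ (hmA' g) a)) (mem_sup_left (hmA g))
    | inv a _ h =>
      obtain ⟨A, hAn, hA, hmA⟩ := h
      refine ⟨A, hAn, hA, fun g => ?_⟩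
      rw [show ⁅a⁻¹, g⁆ = a⁻¹ * ⁅a, g⁆⁻¹ * a⁻¹⁻¹ by simp [commutatorElement_def, mul_assoc]]
      exact hAn.conj_mem _ (inv_mem (hmA g)) _
  obtain ⟨A, hAn, hA, hmem⟩ := hall u hu
  refine mem_center_of_commutators hq hqT hk hA ?_ hmem
  have hle : kernelSub G T ≤ centralizer (A : Set G) := (closure_le _).mpr fun y hy =>
    mem_centralizer_iff.mpr fun a ha => (mem_cent.mp (le_cent_of_snum hA hy ha))
  exact fun a ha => mem_cent.mpr (mem_centralizer_iff.mp (hle hu) a ha)

/-- Elements of coprime order commuting with a noncentral element with `Tᶜ`-class size again have such a size. -/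
theorem bad_of_commute (hS : Setup G T) {y v : G} (hy : Snum Tᶜ (idx y)) (hyc : y ∉ center G)
    (hvy : Commute v y) (hco : (orderOf v).Coprime (orderOf y)) : Snum Tᶜ (idx v) := by
  have h1 : idx y ∣ idx (v * y) := idx_dvd_of_mem_zpowers (mem_zpowers_mul hvy hco)
  have h2 : idx v ∣ idx (v * y) := by
    rw [hvy.eq]
    exact idx_dvd_of_mem_zpowers (mem_zpowers_mul hvy.symm hco.symm)
  rcases hS.dich (v * y) with h | h
  · exfalso
    have h3 : idx y ≠ 1 := fun e => hyc (idx_eq_one_iff.mp e)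
    obtain ⟨r, hr, hrd⟩ := Nat.exists_prime_and_dvd h3
    exact hy r hr hrd (h r hr (hrd.trans h1))
  · exact h.of_dvd h2

/-- A Sylow subgroup inside the centralizer, for a prime not dividing the class size. -/
theorem exists_sylow_le_cent {p : ℕ} [Fact p.Prime] {y : G} (hpy : ¬ p ∣ idx y) :
    ∃ P : Sylow p G, (P : Subgroup G) ≤ centralizer ({y} : Set G) := by
  obtain ⟨P⟩ : Nonempty (Sylow p G) := inferInstance
  obtain ⟨k, hk⟩ := IsPGroup.iff_card.mp P.isPGroup'
  have hdvd : p ^ k ∣ Nat.card (centralizer ({y} : Set G)) := by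
    refine Nat.Coprime.dvd_of_dvd_mul_right (n := idx y) (((Fact.out : p.Prime).coprime_iff_not_dvd.mpr hpy).pow_left k) ?_
    rw [← hk]
    show _ ∣ Nat.card (centralizer ({y} : Set G)) * (centralizer ({y} : Set G)).index
    rw [card_mul_index]
    exact card_subgroup_dvd_card _
  obtain ⟨U, hU⟩ := Sylow.exists_subgroup_card_pow_prime p hdvd
  refine ⟨Sylow.ofCard (U.map (centralizer ({y} : Set G)).subtype) ?_, map_subtype_le _⟩
  rw [card_subtype, hU, ← hk, P.card_eq_multiplicity]

theorem exists_conj_commute {x y : G} {p k : ℕ} (hp : p.Prime) (hx : orderOf x = p ^ k)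
    (hpy : ¬ p ∣ idx y) : ∃ g : G, Commute (g * x * g⁻¹) y := by
  haveI := Fact.mk hp
  obtain ⟨P, hP⟩ := exists_sylow_le_cent hpy
  obtain ⟨S, hS⟩ := (IsPGroup.of_card (n := k) (by rw [Nat.card_zpowers, hx]) : IsPGroup p (zpowers x)).exists_le_sylow
  obtain ⟨g, hg⟩ := MulAction.exists_smul_eq G S P
  refine ⟨g, mem_cent.mp (hP ?_)⟩
  rw [← hg, Sylow.coe_subgroup_smul]
  exact smul_mem_pointwise_smul _ _ _ (hS (mem_zpowers x))

/-- A noncentral element of the kernel of prime power order for a prime in `T`, with `Tᶜ`-class size. -/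
theorem exists_bad_primary (hS : Setup G T) : ∃ y r k, r ∈ T ∧ r.Prime ∧ orderOf y = r ^ k ∧ y ∉ center G ∧
    Snum Tᶜ (idx y) := by
  by_contra hno
  push Not at hno
  obtain ⟨y, hy, hyc⟩ := hS.bad
  apply hyc
  refine Transfer.mem_of_forall_primePow fun q hq u hu ⟨k, hk⟩ => ?_
  have huS := hy.of_dvd (idx_dvd_of_mem_zpowers hu)
  by_contra huc
  by_cases hqT : q ∈ T
  · exact hno u q k hqT hq hk huc huS
  · exact huc (mem_center_of_mem_kernelSub hS (mem_kernelSub huS) hq hqT hk)

/-- The `p`-elements, `p ∈ T` different from the prime of a bad primary element, lie in the kernel. -/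
theorem mem_kernelSub_of_ne (hS : Setup G T) {y : G} {r i : ℕ} (hr : r.Prime) (hy : orderOf y = r ^ i)
    (hyc : y ∉ center G) (hyS : Snum Tᶜ (idx y)) {x : G} {p k : ℕ} (hp : p.Prime) (hpT : p ∈ T) (hpr : p ≠ r)
    (hx : orderOf x = p ^ k) : x ∈ kernelSub G T := by
  obtain ⟨g, hg⟩ := exists_conj_commute (y := y) hp hx (fun h => hyS p hp h hpT)
  have h1 : Snum Tᶜ (idx (g * x * g⁻¹)) := bad_of_commute hS hyS hyc hg (by
    rw [← MulAut.conj_apply, MulEquiv.orderOf_eq, hx, hy]
    exact ((Nat.coprime_primes hp hr).mpr hpr).pow k i)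
  rw [idx_conj] at h1
  exact mem_kernelSub h1

theorem mem_cent_all_of_prime {x : G} {r i : ℕ} (hS : Setup G T) (hr : r.Prime) (hrT : r ∈ T)
    (hx : orderOf x = r ^ i) {y : G} (hy : Snum Tᶜ (idx y)) : Commute x y := by
  rcases hS.dich x with h | h
  · obtain ⟨g, hg⟩ := exists_conj_commute (y := y) hr hx (fun hd => hy r hr hd hrT)
    obtain ⟨d, hd, c, hc, hdc⟩ := Solvable.exists_mul_of_coprime_index (h.coprime hy) g
    rw [mem_cent] at hd hc
    have e : g * x * g⁻¹ = d * x * d⁻¹ := by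
      rw [hdc, show d * c * x * (d * c)⁻¹ = d * (c * x * c⁻¹) * d⁻¹ by group, hc, mul_inv_cancel_right]
    rw [e] at hg
    have hxe : x = d⁻¹ * (d * x * d⁻¹) * d := by group
    rw [hxe]
    exact mem_cent.mp (mul_mem (mul_mem (inv_mem (mem_cent.mpr hd)) (mem_cent.mpr hg.eq)) (mem_cent.mpr hd))
  · exact commute_of_bad hS h hy

/-- For a prime `q ∉ T` the conjugates of a noncentral `q`-element have `T`-class size. -/
theorem good_of_not_central (hS : Setup G T) {v : G} {q k : ℕ} (hq : q.Prime) (hqT : q ∉ T)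
    (hk : orderOf v = q ^ k) (hvc : v ∉ center G) : Snum T (idx v) :=
  (hS.dich v).resolve_right fun h => hvc (mem_center_of_mem_kernelSub hS (mem_kernelSub h) hq hqT hk)

/-- If the images of `T`-elements are trivial, the quotient is abelian. -/
theorem quotient_comm (hS : Setup G T) (N : Subgroup G) [N.Normal] (hN : center G ≤ N)
    (hT : ∀ (x : G) (p k : ℕ), p.Prime → p ∈ T → orderOf x = p ^ k → x ∈ N) (a b : G ⧸ N) : a * b = b * a := by
  obtain ⟨a, rfl⟩ := QuotientGroup.mk_surjective a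
  obtain ⟨b, rfl⟩ := QuotientGroup.mk_surjective b
  set π := QuotientGroup.mk' N with hπ
  suffices h : a ∈ (center (G ⧸ N)).comap π from (mem_center_iff.mp h (π b)).symm
  refine Transfer.mem_of_forall_primePow fun q hq v _ ⟨k, hk⟩ => ?_
  show π v ∈ center (G ⧸ N)
  by_cases hvN : v ∈ N
  · rw [show π v = 1 from (QuotientGroup.eq_one_iff v).mpr hvN]; exact one_mem _
  have hqT : q ∉ T := fun h => hvN (hT v q k hq h hk)
  have hv := good_of_not_central hS hq hqT hk (fun h => hvN (hN h))
  rw [← idx_eq_one_iff]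
  by_contra hne
  obtain ⟨s, hs, hsd⟩ := Nat.exists_prime_and_dvd hne
  have hsT : s ∈ T := hv s hs (hsd.trans (ClassIndex.index_centralizer_map_dvd (QuotientGroup.mk'_surjective N) v))
  haveI := Fact.mk hs
  have hsidx : s ∣ N.index := by
    rw [index_eq_card]
    exact hsd.trans (index_dvd_card _)
  obtain ⟨P⟩ : Nonempty (Sylow s G) := inferInstance
  refine P.not_dvd_index (hsidx.trans (index_dvd_of_le fun x hx => ?_))
  obtain ⟨j, hj⟩ := IsPGroup.iff_orderOf.mp P.isPGroup' ⟨x, hx⟩
  rw [Subgroup.orderOf_mk] at hj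
  exact hT x s j hs hsT hj

/-- All `T`-elements lie in the kernel. -/
theorem mem_kernelSub_of_prime (hS : Setup G T) {x : G} {p k : ℕ} (hp : p.Prime) (hpT : p ∈ T)
    (hx : orderOf x = p ^ k) : x ∈ kernelSub G T := by
  obtain ⟨y, r, i, hrT, hr, hy, hyc, hyS⟩ := exists_bad_primary hS
  by_cases hpr : p = r
  case neg => exact mem_kernelSub_of_ne hS hr hy hyc hyS hp hpT hpr hx
  subst hpr
  -- if another prime occurs, it does the job
  by_cases hother : ∃ y' r' i', r' ≠ p ∧ r'.Prime ∧ orderOf y' = r' ^ i' ∧ y' ∉ center G ∧ Snum Tᶜ (idx y')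
  · obtain ⟨y', r', i', hne, hr', hy', hyc', hyS'⟩ := hother
    exact mem_kernelSub_of_ne hS hr' hy' hyc' hyS' hp hpT hne.symm hx
  push Not at hother
  haveI := Fact.mk hp
  set M := kernelSub G T with hM
  have hMn : M.Normal := kernelSub_normal
  -- the `p`-elements centralise the kernel
  have hpM : ∀ (u : G) (j : ℕ), orderOf u = p ^ j → ∀ m ∈ M, Commute u m := by
    intro u j hu m hm
    have hle : M ≤ centralizer ({u} : Set G) :=
      (closure_le _).mpr fun z hz => mem_cent.mpr (mem_cent_all_of_prime hS hr hrT hu hz).symm.eq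
    exact (mem_cent.mp (hle hm)).symm
  -- every element of `M` has `Tᶜ`-class size
  have hMS : ∀ m ∈ M, Snum Tᶜ (idx m) := by
    intro m hm s hs hsd hsT
    haveI := Fact.mk hs
    obtain ⟨P⟩ : Nonempty (Sylow s G) := inferInstance
    refine P.not_dvd_index (hsd.trans (index_dvd_of_le fun a ha => mem_cent.mpr ?_))
    obtain ⟨j, hj⟩ := IsPGroup.iff_orderOf.mp P.isPGroup' ⟨a, ha⟩
    rw [Subgroup.orderOf_mk] at hj
    by_cases hsp : s = p
    · subst hsp; exact (hpM a j hj m hm).eq
    · exact kernelSub_comm hS (mem_kernelSub_of_ne hS hr hy hyc hyS hs hsT hsp hj) hm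
  -- the elements of `M` of order prime to `p` are central
  have hMc : ∀ m ∈ M, (orderOf m).Coprime p → m ∈ center G := by
    intro m hm hco
    refine Transfer.mem_of_forall_primePow fun s hs u hu ⟨j, hj⟩ => ?_
    rcases eq_or_ne s p with rfl | hsp
    · obtain ⟨n, rfl⟩ := hu
      have hd : s ^ j ∣ orderOf m := hj ▸ orderOf_dvd_of_mem_zpowers ⟨n, rfl⟩
      rcases j with _ | j
      · rw [pow_zero, orderOf_eq_one_iff] at hj; rw [hj]; exact one_mem _
      · exact absurd ((dvd_pow_self s (Nat.succ_ne_zero j)).trans hd) (hs.coprime_iff_not_dvd.mp hco.symm)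
    · by_contra huc
      exact hother u s j hsp hs hj huc (hMS u ((zpowers_le.mpr hm) hu))
  set C := centralizer ({y} : Set G) with hC
  set Z := (center G).subgroupOf C
  have hquot : IsPGroup p (C ⧸ Z) := by
    intro c
    obtain ⟨g, rfl⟩ := QuotientGroup.mk_surjective c
    obtain ⟨a, b, hab, ha, hb, ⟨j, hj⟩, hbco⟩ := Transfer.exists_pPart_mul (p := p) (g : G)
    refine ⟨j, ?_⟩
    rw [← QuotientGroup.mk_pow, QuotientGroup.eq_one_iff, mem_subgroupOf, coe_pow]
    have hcomm : Commute a b := by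
      obtain ⟨n, rfl⟩ := ha
      obtain ⟨n', rfl⟩ := hb
      exact Commute.zpow_zpow_self (g : G) n n'
    rw [hab, hcomm.mul_pow, ← hj, pow_orderOf_eq_one, one_mul]
    refine pow_mem (hMc b (mem_kernelSub (bad_of_commute hS hyS hyc ?_ ?_)) hbco) _
    · exact (mem_cent.mp ((zpowers_le.mpr g.2) hb))
    · rw [hy]; exact hbco.pow_right i
  haveI := hquot.isNilpotent
  have hCnil : Group.IsNilpotent C := Subgroup.isNilpotent_of_ker_le_center (QuotientGroup.mk' Z) (by
    rw [QuotientGroup.ker_mk']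
    exact fun z hz => mem_center_iff.mpr fun w => Subtype.ext (mem_center_iff.mp (mem_subgroupOf.mp hz) w))
  obtain ⟨P, hPC⟩ := exists_sylow_le_cent (p := p) (y := y) (fun h => hyS p hp h hrT)
  set R := (P : Subgroup G)
  have hRall : ∀ (u : G) (j : ℕ), orderOf u = p ^ j → u ∈ R := by
    intro u j hu
    have huC : u ∈ C := mem_cent.mpr (mem_cent_all_of_prime hS hr hrT hu hyS).eq
    haveI := hCnil
    haveI : ((P.subtype hPC : Sylow p C) : Subgroup C).Normal :=
      (Group.isNilpotent_of_finite_tfae (G := C)).out 0 3 rfl rfl |>.mp hCnil p inferInstance _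
    haveI := Sylow.unique_of_normal (P.subtype hPC) inferInstance
    obtain ⟨S, hS'⟩ := (IsPGroup.of_card (n := j) (by rw [Nat.card_zpowers, Subgroup.orderOf_mk, hu]) :
      IsPGroup p (zpowers (⟨u, huC⟩ : C))).exists_le_sylow
    have h1 : (⟨u, huC⟩ : C) ∈ ((P.subtype hPC : Sylow p C) : Subgroup C) := by
      rw [Subsingleton.elim (P.subtype hPC) S]; exact hS' (mem_zpowers _)
    exact h1
  haveI hRn : R.Normal := ⟨fun a ha g => by
    obtain ⟨j, hj⟩ := IsPGroup.iff_orderOf.mp P.isPGroup' ⟨a, ha⟩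
    rw [Subgroup.orderOf_mk] at hj
    exact hRall _ j (by rw [← MulAut.conj_apply, MulEquiv.orderOf_eq]; exact hj)⟩
  -- a noncentral Sylow subgroup for a prime outside `T`
  obtain ⟨q, hq, hqd⟩ := Nat.exists_prime_and_dvd (fun e => hyc (idx_eq_one_iff.mp e) : idx y ≠ 1)
  have hqT : q ∉ T := hyS q hq hqd
  haveI := Fact.mk hq
  obtain ⟨Q⟩ : Nonempty (Sylow q G) := inferInstance
  set W := R ⊔ center G with hW
  have hTW : ∀ (u : G) (s j : ℕ), s.Prime → s ∈ T → orderOf u = s ^ j → u ∈ W := by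
    intro u s j hs hsT hu
    rcases eq_or_ne s p with rfl | hsp
    · exact mem_sup_left (hRall u j hu)
    · exact mem_sup_right (hMc u (mem_kernelSub_of_ne hS hr hy hyc hyS hs hsT hsp hu)
        (by rw [hu]; exact ((Nat.coprime_primes hs hp).mpr hsp).pow_left j))
  have hab := quotient_comm hS W le_sup_right hTW
  set V := W ⊔ (Q : Subgroup G)
  haveI hVn : V.Normal := by
    refine ⟨fun a ha g => ?_⟩
    have h1 : ⁅g, a⁆ ∈ W := by
      rw [← QuotientGroup.eq_one_iff]
      show ((⁅g, a⁆ : G) : G ⧸ W) = 1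
      rw [commutatorElement_def, QuotientGroup.mk_mul, QuotientGroup.mk_mul, QuotientGroup.mk_mul,
        QuotientGroup.mk_inv, QuotientGroup.mk_inv, hab (g : G ⧸ W) a]
      group
    rw [show g * a * g⁻¹ = ⁅g, a⁆ * a by simp [commutatorElement_def]]
    exact mul_mem (mem_sup_left h1) ha
  have hsup : R ⊔ normalizer ((Q : Subgroup G) : Set G) = ⊤ := by
    rw [eq_top_iff]
    have hQV : (Q : Subgroup G) ≤ V := le_sup_right
    have h := Sylow.normalizer_sup_eq_top (Q.subtype hQV)
    rw [show ((Q.subtype hQV : Sylow q V) : Subgroup V).map V.subtype = (Q : Subgroup G) from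
      map_subgroupOf_eq_of_le hQV] at h
    rw [← h]
    refine sup_le le_sup_right (sup_le (sup_le le_sup_left ?_) (le_sup_of_le_right le_normalizer))
    exact le_sup_of_le_right (fun z hz => centralizer_le_normalizer _
      (mem_centralizer_iff.mpr fun w _ => mem_center_iff.mp hz w))
  set D := R ⊓ centralizer ((Q : Subgroup G) : Set G) with hD
  have hcover : ∀ a ∈ R, a ∉ M → ∃ ρ ∈ R, ρ⁻¹ * a * ρ ∈ D := by
    intro a ha haM
    have hgood : Snum T (idx a) := (hS.dich a).resolve_right fun h => haM (mem_kernelSub h)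
    obtain ⟨Q', hQ'⟩ := exists_sylow_le_cent (p := q) (y := a) (fun h => hqT (hgood q hq h))
    obtain ⟨g, hg⟩ := MulAction.exists_smul_eq G Q Q'
    have hgm : g ∈ R ⊔ normalizer ((Q : Subgroup G) : Set G) := hsup ▸ mem_top g
    rw [mem_sup_of_normal_left] at hgm
    obtain ⟨ρ, hρ, n, hn, rfl⟩ := hgm
    refine ⟨ρ, hρ, mem_inf.mpr ⟨mul_mem (mul_mem (inv_mem hρ) ha) hρ, mem_centralizer_iff.mpr fun w hw => ?_⟩⟩
    have hwn : n⁻¹ * w * n ∈ (Q : Subgroup G) := (mem_normalizer_iff''.mp hn w).mp hw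
    have h2 : (ρ * n) * (n⁻¹ * w * n) * (ρ * n)⁻¹ ∈ centralizer ({a} : Set G) := hQ' (by
      rw [← hg, Sylow.coe_subgroup_smul]
      exact smul_mem_pointwise_smul _ _ _ hwn)
    rw [show (ρ * n) * (n⁻¹ * w * n) * (ρ * n)⁻¹ = ρ * w * ρ⁻¹ by group, mem_cent] at h2
    have := congrArg (fun z => ρ⁻¹ * z * ρ) h2
    simpa [mul_assoc] using this
  by_contra hxM
  have hxR : x ∈ R := hRall x k hx
  have hDR : D ≠ R := by
    intro h
    have hQc : (Q : Subgroup G) ≤ centralizer ({y} : Set G) := by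
      intro w hw
      have hyR : y ∈ R := hRall y i hy
      rw [← h] at hyR
      exact mem_cent.mpr (mem_centralizer_iff.mp hyR.2 w hw)
    exact Q.not_dvd_index (hqd.trans (index_dvd_of_le hQc))
  -- a maximal subgroup of `R` containing `D` is normal
  haveI hRnil : Group.IsNilpotent R := P.isPGroup'.isNilpotent
  obtain ⟨N', hN', hDN⟩ := (eq_top_or_exists_le_coatom (D.subgroupOf R)).resolve_left fun h =>
    hDR (le_antisymm inf_le_left (subgroupOf_eq_top.mp h))
  haveI : N'.Normal := Group.normalizerCondition_of_isNilpotent.normal_of_coatom N' hN'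
  have hunion : ∀ a : R, (a : G) ∈ M ∨ a ∈ N' := by
    intro a
    by_cases ha : (a : G) ∈ M
    · exact Or.inl ha
    obtain ⟨ρ, hρ, hρD⟩ := hcover a a.2 ha
    refine Or.inr ?_
    have h1 : (⟨ρ, hρ⟩ : R)⁻¹ * a * ⟨ρ, hρ⟩ ∈ N' := hDN (mem_subgroupOf.mpr hρD)
    have h2 := (inferInstance : N'.Normal).conj_mem _ h1 ⟨ρ, hρ⟩
    simpa [mul_assoc] using h2
  obtain ⟨b, hb⟩ : ∃ b : R, b ∉ N' := by
    by_contra h
    push Not at h
    exact hN'.1 (eq_top_iff.mpr fun b _ => h b)
  have hbM : (b : G) ∈ M := (hunion b).resolve_right hb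
  rcases hunion (⟨x, hxR⟩ * b) with h | h
  · exact hxM (by simpa using mul_mem h (inv_mem hbM))
  · rcases hunion ⟨x, hxR⟩ with h' | h'
    · exact hxM h'
    · exact hb (by simpa [← mul_assoc] using mul_mem (inv_mem h') h)

/-- The class sizes of the elements of the kernel are `Tᶜ`-numbers. -/
theorem snum_of_mem_kernelSub (hS : Setup G T) {m : G} (hm : m ∈ kernelSub G T) : Snum Tᶜ (idx m) := by
  intro s hs hsd hsT
  haveI := Fact.mk hs
  obtain ⟨P⟩ : Nonempty (Sylow s G) := inferInstance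
  refine P.not_dvd_index (hsd.trans (index_dvd_of_le fun a ha => mem_cent.mpr ?_))
  obtain ⟨j, hj⟩ := IsPGroup.iff_orderOf.mp P.isPGroup' ⟨a, ha⟩
  rw [Subgroup.orderOf_mk] at hj
  exact kernelSub_comm hS (mem_kernelSub_of_prime hS hs hsT hj) hm

/-- An element outside the kernel commuting modulo the centre with an element of the kernel: that element is
central. -/
theorem mem_center_of_commutator (hS : Setup G T) {m u : G} (hm : m ∈ kernelSub G T)
    (hu : u ∉ kernelSub G T) (h : ⁅m, u⁆ ∈ center G) : m ∈ center G := by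
  by_contra hmc
  obtain ⟨v, hv, q, j, hq, hqT, hvj, hvM⟩ :
      ∃ v ∈ zpowers u, ∃ q j, q.Prime ∧ q ∉ T ∧ orderOf v = q ^ j ∧ v ∉ kernelSub G T := by
    by_contra hno
    push Not at hno
    refine hu (Transfer.mem_of_forall_primePow fun q hq v hv ⟨j, hj⟩ => ?_)
    by_cases hqT : q ∈ T
    · exact mem_kernelSub_of_prime hS hq hqT hj
    · exact hno v hv q j hq hqT hj
  obtain ⟨w, hw, r, i, hr, hrT, hwi, hwc⟩ :
      ∃ w ∈ zpowers m, ∃ r i, r.Prime ∧ r ∈ T ∧ orderOf w = r ^ i ∧ w ∉ center G := by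
    by_contra hno
    push Not at hno
    refine hmc (Transfer.mem_of_forall_primePow fun r hr w hw ⟨i, hi⟩ => ?_)
    by_cases hrT : r ∈ T
    · exact hno w hw r i hr hrT hi
    · exact mem_center_of_mem_kernelSub hS ((zpowers_le.mpr hm) hw) hr hrT hi
  have hc : ⁅w, v⁆ ∈ center G := by
    set π := QuotientGroup.mk' (center G)
    have h1 : Commute (π m) (π u) := by
      refine commutatorElement_eq_one_iff_mul_comm.mp ?_
      rw [← map_commutatorElement]
      exact (QuotientGroup.eq_one_iff _).mpr h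
    obtain ⟨a, rfl⟩ := hw
    obtain ⟨b, rfl⟩ := hv
    rw [← QuotientGroup.eq_one_iff]
    show π ⁅m ^ a, u ^ b⁆ = 1
    rw [map_commutatorElement, map_zpow, map_zpow, commutatorElement_eq_one_iff_mul_comm]
    exact (h1.zpow_zpow a b).eq
  have hcw : Commute w ⁅w, v⁆ := mem_center_iff.mp hc w
  have hcv : Commute v ⁅w, v⁆ := mem_center_iff.mp hc v
  have h1 : ⁅w, v⁆ ^ (r ^ i) = 1 := by
    rw [← hwi, ← PGroup.commutator_pow_left hcw, pow_orderOf_eq_one, commutatorElement_one_left]
  have h2 : ⁅w, v⁆ ^ (q ^ j) = 1 := by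
    rw [← hvj, ← PGroup.commutator_pow_right hcv, pow_orderOf_eq_one, commutatorElement_one_right]
  have hrq : (r ^ i).Coprime (q ^ j) := ((Nat.coprime_primes hr hq).mpr fun e => hqT (e ▸ hrT)).pow i j
  have h3 : ⁅w, v⁆ = 1 := by
    rw [← pow_one ⁅w, v⁆, ← hrq.gcd_eq_one]
    exact pow_gcd_eq_one.mpr ⟨h1, h2⟩
  refine hvM (mem_kernelSub (bad_of_commute hS (snum_of_mem_kernelSub hS ((zpowers_le.mpr hm) hw)) hwc
    (commutatorElement_eq_one_iff_mul_comm.mp h3 : Commute w v).symm ?_))
  rw [hvj, hwi]; exact hrq.symm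

/-- The central quotient is Frobenius with abelian kernel and complement. -/
theorem exists_frobenius (hS : Setup G T) :
    ∃ H : Subgroup (G ⧸ center G), Cfsg.IsFrobeniusComplement H ∧ IsMulCommutative H ∧
      ∀ x ∈ Cfsg.frobeniusKernel H, ∀ y ∈ Cfsg.frobeniusKernel H, x * y = y * x := by
  set π := QuotientGroup.mk' (center G) with hπ
  set M := kernelSub G T with hM
  have hMn : M.Normal := kernelSub_normal
  set K : Subgroup (G ⧸ center G) := M.map π with hK
  haveI hKn : K.Normal := hMn.map π (QuotientGroup.mk'_surjective _)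
  have hlift : ∀ u : G, π u ∈ K → u ∈ M := by
    rintro u ⟨m, hm, he⟩
    have h1 : m⁻¹ * u ∈ center G := QuotientGroup.eq.mp he
    simpa using mul_mem hm (center_le_kernelSub h1 : m⁻¹ * u ∈ M)
  have hco : (Nat.card K).Coprime K.index := by
    refine Nat.coprime_of_dvd fun s hs hsK hsI => ?_
    haveI := Fact.mk hs
    by_cases hsT : s ∈ T
    · obtain ⟨P⟩ : Nonempty (Sylow s G) := inferInstance
      refine P.not_dvd_index (hsI.trans ((index_map_dvd M (QuotientGroup.mk'_surjective _)).trans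
        (index_dvd_of_le fun a ha => ?_)))
      obtain ⟨j, hj⟩ := IsPGroup.iff_orderOf.mp P.isPGroup' ⟨a, ha⟩
      rw [Subgroup.orderOf_mk] at hj
      exact mem_kernelSub_of_prime hS hs hsT hj
    · obtain ⟨z, hz⟩ := exists_prime_orderOf_dvd_card' s hsK
      obtain ⟨m, hm, hmz⟩ := z.2
      have hz1 : π m ≠ 1 := fun e => hs.ne_one (by
        rw [← hz, orderOf_eq_one_iff]; exact Subtype.ext (hmz.symm.trans e))
      apply hz1
      have hord : (π m) ^ s = 1 := by
        rw [hmz, ← hz, ← Subgroup.orderOf_coe, pow_orderOf_eq_one]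
      suffices h : m ∈ (⊥ : Subgroup (G ⧸ center G)).comap π by simpa using h
      refine Transfer.mem_of_forall_primePow fun t ht v hv ⟨j, hj⟩ => ?_
      show π v ∈ (⊥ : Subgroup (G ⧸ center G))
      rw [mem_bot]
      rcases eq_or_ne t s with rfl | hts
      · exact (QuotientGroup.eq_one_iff v).mpr
          (mem_center_of_mem_kernelSub hS ((zpowers_le.mpr hm) hv) hs hsT hj)
      · obtain ⟨n, rfl⟩ := hv
        have h1 : (π (m ^ n)) ^ s = 1 := by
          rw [map_zpow, ← zpow_natCast, zpow_comm, zpow_natCast, hord, one_zpow]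
        have h2 : (π (m ^ n)) ^ (t ^ j) = 1 := by rw [← hj, ← map_pow, pow_orderOf_eq_one, map_one]
        rw [← pow_one (π (m ^ n)), ← (((Nat.coprime_primes hs ht).mpr hts.symm).pow_right j).gcd_eq_one]
        exact pow_gcd_eq_one.mpr ⟨h1, h2⟩
  obtain ⟨H, hH⟩ := exists_right_complement'_of_coprime hco
  have hfree : ∀ a ∈ K, ∀ h : G ⧸ center G, h ∉ K → a * h = h * a → a = 1 := by
    rintro _ ⟨m, hm, rfl⟩ h hh hah
    obtain ⟨u, rfl⟩ := QuotientGroup.mk_surjective h
    refine (QuotientGroup.eq_one_iff m).mpr (mem_center_of_commutator hS hm (u := u) ?_ ?_)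
    · exact fun h => hh ⟨u, h, rfl⟩
    · rw [← QuotientGroup.eq_one_iff]
      show π ⁅m, u⁆ = 1
      rw [map_commutatorElement, commutatorElement_eq_one_iff_mul_comm]
      exact hah
  have hHcomm : ∀ a ∈ H, ∀ b ∈ H, a * b = b * a := by
    intro a ha b hb
    have hab := quotient_comm hS M center_le_kernelSub
      (fun x p k hp hpT hx => mem_kernelSub_of_prime hS hp hpT hx)
    obtain ⟨u, rfl⟩ := QuotientGroup.mk_surjective a
    obtain ⟨w, rfl⟩ := QuotientGroup.mk_surjective b
    have h1 := hab (u : G ⧸ M) (w : G ⧸ M)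
    rw [← QuotientGroup.mk_mul, ← QuotientGroup.mk_mul, QuotientGroup.eq] at h1
    have h2 : π ((u * w)⁻¹ * (w * u)) ∈ K ⊓ H := by
      refine ⟨⟨_, h1, rfl⟩, ?_⟩
      simp only [map_mul, map_inv]
      show _ ∈ H
      exact mul_mem (inv_mem (mul_mem ha hb)) (mul_mem hb ha)
    rw [hH.disjoint.eq_bot, mem_bot, map_mul, map_inv, inv_mul_eq_one, map_mul, map_mul] at h2
    exact h2
  have hsplit : ∀ g : G ⧸ center G, ∃ a ∈ K, ∃ h ∈ H, g = a * h := fun g => by
    obtain ⟨⟨a, h⟩, he⟩ := hH.2 g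
    exact ⟨a, a.2, h, h.2, he.symm⟩
  have hKH : ∀ a ∈ K, a ∈ H → a = 1 := fun a ha hb => by
    have : a ∈ K ⊓ H := ⟨ha, hb⟩
    rwa [hH.disjoint.eq_bot, mem_bot] at this
  refine ⟨H, ⟨?_, ?_, ?_⟩, ⟨⟨fun a b => Subtype.ext (hHcomm a a.2 b b.2)⟩⟩, ?_⟩
  · intro hbot
    obtain ⟨y, r, i, hrT, hr, hy, hyc, hyS⟩ := exists_bad_primary hS
    have hKtop : K = ⊤ := by rw [hbot, isComplement'_bot_right] at hH; exact hH
    apply hyc
    rw [← idx_eq_one_iff, idx, index_eq_one, eq_top_iff]
    exact fun a _ => mem_cent.mpr (kernelSub_comm hS (hlift a (hKtop ▸ mem_top _)) (mem_kernelSub hyS))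
  · intro htop
    obtain ⟨y, r, i, hrT, hr, hy, hyc, hyS⟩ := exists_bad_primary hS
    exact hyc ((QuotientGroup.eq_one_iff y).mp
      (hKH _ ⟨y, mem_kernelSub hyS, rfl⟩ (htop ▸ mem_top _)))
  · intro g hg
    rw [eq_bot_iff]
    rintro x ⟨hx, hx'⟩
    rw [mem_bot]
    replace hx' : x ∈ MulAut.conj g • H := hx'
    rw [mem_pointwise_smul_iff_inv_smul_mem] at hx'
    simp only [MulAut.smul_def, MulAut.conj_inv_apply] at hx'
    obtain ⟨a, ha, h0, hh0, rfl⟩ := hsplit g
    by_contra hx1
    have hxK : x ∉ K := fun h => hx1 (hKH x h hx)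
    -- `a⁻¹ x a` lies in `H` and is congruent to `x`
    have hmem : a⁻¹ * x * a ∈ H := by
      have := mul_mem (mul_mem hh0 hx') (inv_mem hh0)
      simpa [mul_assoc] using this
    have h1 : x⁻¹ * (a⁻¹ * x * a) = 1 := by
      refine hKH _ ?_ (mul_mem (inv_mem hx) hmem)
      rw [show x⁻¹ * (a⁻¹ * x * a) = x⁻¹ * a⁻¹ * x * a by group]
      exact mul_mem (by simpa using hKn.conj_mem _ (inv_mem ha) x⁻¹) ha
    have hax : a * x = x * a := by
      have := congrArg (fun z => a * (x * z)) h1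
      simpa [mul_assoc] using this.symm
    have ha1 := hfree a ha x hxK hax
    rw [ha1, one_mul] at hg
    exact hg hh0
  · have hker : ∀ x ∈ Cfsg.frobeniusKernel H, x ∈ K := by
      intro x hx
      by_contra hxK
      rcases hx with rfl | hx
      · exact hxK (one_mem K)
      obtain ⟨a, ha, h0, hh0, rfl⟩ := hsplit x
      have hh0K : h0 ∉ K := fun h => hxK (mul_mem ha h)
      -- conjugation of `h0` by `K` covers the coset
      let f : K → K := fun m => ⟨(m : G ⧸ center G) * (h0 * (m : G ⧸ center G)⁻¹ * h0⁻¹),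
        mul_mem m.2 (hKn.conj_mem _ (inv_mem m.2) h0)⟩
      have hf : Function.Injective f := by
        intro m n hmn
        have h1 : (m : G ⧸ center G) * (h0 * (m : G ⧸ center G)⁻¹ * h0⁻¹) =
            (n : G ⧸ center G) * (h0 * (n : G ⧸ center G)⁻¹ * h0⁻¹) := congrArg Subtype.val hmn
        have h2 : ((n : G ⧸ center G)⁻¹ * m) * h0 = h0 * ((n : G ⧸ center G)⁻¹ * m) := by
          have := congrArg (fun z => (n : G ⧸ center G)⁻¹ * z * h0 * m) h1
          simpa [mul_assoc] using this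
        have h3 := hfree _ (mul_mem (inv_mem n.2) m.2) h0 hh0K h2
        exact Subtype.ext (inv_mul_eq_one.mp h3).symm
      obtain ⟨m, hm⟩ := (Finite.injective_iff_surjective.mp hf) ⟨a, ha⟩
      apply hx (m : G ⧸ center G)
      have he : (m : G ⧸ center G) * (h0 * (m : G ⧸ center G)⁻¹ * h0⁻¹) = a := congrArg Subtype.val hm
      rw [mem_pointwise_smul_iff_inv_smul_mem, MulAut.smul_def, MulAut.conj_inv_apply, ← he]
      simpa [mul_assoc] using hh0
    intro x hx y hy
    obtain ⟨m, hm, rfl⟩ := hker x hx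
    obtain ⟨n, hn, rfl⟩ := hker y hy
    rw [← map_mul, ← map_mul, kernelSub_comm hS hm hn]

end Cfsg.Agent.ClassGraph
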