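import Cfsg.Agent.EqLemmas
import Cfsg.Agent.Lib.ClassIndex.Basic
import Cfsg.Agent.Lib.ClassIndex.PxQ
import Cfsg.Agent.Lib.Solvable.Maximal

/-!
# Primes far from a largest conjugacy class (owner: helper34)

For a class `C = a^G` of largest size `m`, the elements with class size prime to `m` generate an
abelian normal subgroup.  If some prime `p` divides only such class sizes, then there is a
normal abelian subgroup `N` such that every class size divides `|G : N|` or is a multiple of a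
fixed `w > 1`, and `|G : N|` is itself a class size.

* `exists_dichotomy_of_isolated`
-/

open Pointwise

namespace Cfsg.Agent.ClassGraph

variable {G : Type*} [Group G]

/-- The class size. -/
noncomputable def sz (g : G) : ℕ := (Subgroup.centralizer ({g} : Set G)).index

theorem sz_pos [Finite G] (g : G) : 0 < sz g :=
  Nat.pos_of_ne_zero Subgroup.index_ne_zero_of_finite

theorem mem_cent_single {g x : G} : g ∈ Subgroup.centralizer ({x} : Set G) ↔ g * x = x * g :=
  Subgroup.mem_centralizer_singleton_iff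

theorem sz_conj (x g : G) : sz (x * g * x⁻¹) = sz g := by
  unfold sz
  rw [ClassIndex.index_centralizer_eq, ClassIndex.index_centralizer_eq]
  refine Nat.card_congr (Equiv.subtypeEquivRight fun y => ⟨?_, ?_⟩)
  · rintro ⟨z, rfl⟩; exact ⟨z * x, by group⟩
  · rintro ⟨z, rfl⟩; exact ⟨z * x⁻¹, by group⟩

/-- The class of `a` as a set. -/
def cls (a : G) : Set G := {y | ∃ x : G, x * a * x⁻¹ = y}

theorem ncard_cls (a : G) : (cls a).ncard = sz a := by
  unfold sz
  rw [ClassIndex.index_centralizer_eq, ← Nat.card_coe_set_eq]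
  rfl

theorem cls_conj {a y : G} (hy : y ∈ cls a) (x : G) : x * y * x⁻¹ ∈ cls a := by
  obtain ⟨z, rfl⟩ := hy
  exact ⟨x * z, by group⟩

/-- The elements `t` with `t C = C`. -/
def stab (a : G) : Subgroup G := MulAction.stabilizer G (cls a)

theorem mem_stab [Finite G] {a t : G} : t ∈ stab a ↔ ∀ y ∈ cls a, t * y ∈ cls a := by
  rw [stab, MulAction.mem_stabilizer_iff]
  constructor
  · intro h y hy
    exact h ▸ Set.smul_mem_smul_set (a := t) hy
  · intro h
    refine Set.eq_of_subset_of_ncard_le ?_ (le_of_eq (Set.ncard_smul_set t _).symm) (Set.toFinite _)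
    rintro _ ⟨y, hy, rfl⟩
    exact h y hy

instance stab_normal [Finite G] (a : G) : (stab a).Normal := by
  refine ⟨fun t ht x => mem_stab.2 fun y hy => ?_⟩
  have h1 : x⁻¹ * y * x ∈ cls a := by simpa using cls_conj hy x⁻¹
  have h2 := cls_conj (mem_stab.1 ht _ h1) x
  simpa [mul_assoc] using h2

theorem card_stab_dvd [Finite G] (a : G) : Nat.card (stab a) ∣ sz a := by
  have heq : (QuotientGroup.mk : G → G ⧸ stab a) ⁻¹' (QuotientGroup.mk '' cls a) = cls a := by
    refine le_antisymm ?_ (Set.subset_preimage_image _ _)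
    rintro z ⟨y, hy, hyz⟩
    rw [QuotientGroup.eq] at hyz
    have h := mem_stab.1 (Subgroup.Normal.conj_mem inferInstance _ hyz y) y hy
    simpa [mul_assoc] using h
  rw [← ncard_cls, ← Nat.card_coe_set_eq, ← heq,
    Nat.card_congr (QuotientGroup.preimageMkEquivSubgroupProdSet _ _), Nat.card_prod]
  exact dvd_mul_right _ _

variable [Finite G] {a : G}

/-- Key lemma: an element with class size prime to a largest one is central modulo `stab a`. -/
theorem comm_mem_stab (hmax : ∀ g : G, sz g ≤ sz a) {b : G} (hb : (sz b).Coprime (sz a)) (x : G) :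
    b⁻¹ * (x * b * x⁻¹) ∈ stab a := by
  have hsub : ∀ y ∈ cls a, b * y ∈ cls (b * a) := by
    rintro y ⟨z, rfl⟩
    obtain ⟨k, hk, u, hu, hku⟩ := Solvable.exists_mul_of_coprime_index
      (show (Subgroup.centralizer ({a} : Set G)).index.Coprime
        (Subgroup.centralizer ({b} : Set G)).index from hb.symm) z
    rw [mem_cent_single] at hk hu
    refine ⟨k, ?_⟩
    rw [hku]
    calc k * (b * a) * k⁻¹ = (k * b) * (a * k⁻¹) := by group
      _ = (b * k) * (a * k⁻¹) := by rw [hk]
      _ = b * (k * (a * u) * u⁻¹ * k⁻¹) := by group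
      _ = b * (k * (u * a) * u⁻¹ * k⁻¹) := by rw [hu]
      _ = b * (k * u * a * (k * u)⁻¹) := by group
  have himg : b • cls a = cls (b * a) := by
    refine Set.eq_of_subset_of_ncard_le ?_ ?_ (Set.toFinite _)
    · rintro _ ⟨y, hy, rfl⟩
      exact hsub y hy
    · rw [Set.ncard_smul_set, ncard_cls, ncard_cls]
      exact hmax _
  refine mem_stab.2 fun y hy => ?_
  have h1 : x⁻¹ * y * x ∈ cls a := by simpa using cls_conj hy x⁻¹
  have h2 : x * (b * (x⁻¹ * y * x)) * x⁻¹ ∈ b • cls a := himg ▸ cls_conj (hsub _ h1) x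
  obtain ⟨y', hy', hyy⟩ := h2
  have h3 : b⁻¹ * (x * b * x⁻¹) * y = y' := by
    have h4 : b * y' = x * b * x⁻¹ * y := by
      simp only [smul_eq_mul] at hyy
      rw [hyy]; group
    rw [mul_assoc b⁻¹, ← h4]; group
  rw [h3]; exact hy'

/-- An element with class size prime to a largest one centralises `stab a`. -/
theorem stab_le_centralizer {b : G} (hb : (sz b).Coprime (sz a)) :
    stab a ≤ Subgroup.centralizer ({b} : Set G) := by
  rw [← Subgroup.relIndex_eq_one]
  refine Nat.dvd_one.1 (hb ▸ Nat.dvd_gcd ?_ ?_)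
  · exact ClassIndex.relIndex_dvd_index_of_normal_right _ _
  · exact ((Subgroup.centralizer ({b} : Set G)).subgroupOf (stab a)).index_dvd_card.trans
      (card_stab_dvd a)

/-- The subgroup generated by the elements with class size prime to a largest one. -/
def sgen (a : G) : Subgroup G := Subgroup.closure {b | (sz b).Coprime (sz a)}

omit [Finite G] in
theorem mem_sgen {b : G} (hb : (sz b).Coprime (sz a)) : b ∈ sgen a := Subgroup.subset_closure hb

omit [Finite G] in
instance sgen_normal (a : G) : (sgen a).Normal := by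
  refine ⟨fun n hn x => ?_⟩
  have hle : sgen a ≤ (sgen a).comap (MulAut.conj x).toMonoidHom := by
    refine (Subgroup.closure_le _).2 fun b hb => ?_
    refine mem_sgen ?_
    show (sz (MulAut.conj x b)).Coprime (sz a)
    rw [MulAut.conj_apply, sz_conj]
    exact hb
  simpa using hle hn

theorem sgen_comm (hmax : ∀ g : G, sz g ≤ sz a) {n : G} (hn : n ∈ sgen a) (x : G) :
    n⁻¹ * (x * n * x⁻¹) ∈ stab a := by
  have hle : sgen a ≤ (Subgroup.center (G ⧸ stab a)).comap (QuotientGroup.mk' (stab a)) := by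
    refine (Subgroup.closure_le _).2 fun b hb => ?_
    rw [SetLike.mem_coe, Subgroup.mem_comap, Subgroup.mem_center_iff]
    intro z
    obtain ⟨x, rfl⟩ := QuotientGroup.mk'_surjective (stab a) z
    rw [← map_mul, ← map_mul, eq_comm, QuotientGroup.mk'_eq_mk']
    refine ⟨x⁻¹ * (b⁻¹ * (x * b * x⁻¹)) * (x⁻¹)⁻¹,
      Subgroup.Normal.conj_mem inferInstance _ (comm_mem_stab hmax hb x) _, ?_⟩
    group
  have h := Subgroup.mem_center_iff.1 (hle hn) (QuotientGroup.mk' (stab a) x)
  rw [← map_mul, ← map_mul, eq_comm, QuotientGroup.mk'_eq_mk'] at h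
  obtain ⟨t, ht, h⟩ := h
  have : n⁻¹ * (x * n * x⁻¹) = x * t * x⁻¹ := by
    rw [show x * n = n * x * t from h.symm]; group
  rw [this]
  exact Subgroup.Normal.conj_mem inferInstance _ ht _

theorem stab_comm_sgen {n : G} (hn : n ∈ sgen a) {t : G} (ht : t ∈ stab a) : t * n = n * t := by
  have hle : sgen a ≤ Subgroup.centralizer (stab a : Set G) := by
    refine (Subgroup.closure_le _).2 fun b hb => ?_
    rw [SetLike.mem_coe, Subgroup.mem_centralizer_iff]
    intro s hs
    exact mem_cent_single.1 (stab_le_centralizer hb hs)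
  exact Subgroup.mem_centralizer_iff.1 (hle hn) t ht

theorem sgen_abelian (hmax : ∀ g : G, sz g ≤ sz a) {n k : G} (hn : n ∈ sgen a) (hk : k ∈ sgen a) :
    n * k = k * n := by
  have key : ∀ b : G, (sz b).Coprime (sz a) → sgen a ≤ Subgroup.centralizer ({b} : Set G) := by
    intro b hb
    have hmem : ∀ n : sgen a, (n : G) * b * (n : G)⁻¹ * b⁻¹ ∈ stab a := by
      intro n
      have h := Subgroup.Normal.conj_mem inferInstance _ (comm_mem_stab hmax hb (n : G)) b
      have e : (n : G) * b * (n : G)⁻¹ * b⁻¹ = b * (b⁻¹ * ((n : G) * b * (n : G)⁻¹)) * b⁻¹ := by group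
      rw [e]; exact h
    let ψ : sgen a →* stab a :=
      { toFun := fun n => ⟨(n : G) * b * (n : G)⁻¹ * b⁻¹, hmem n⟩
        map_one' := by ext; simp
        map_mul' := fun n n' => by
          apply Subtype.ext
          have h := stab_comm_sgen n.2 (hmem n')
          calc ((n * n' : sgen a) : G) * b * ((n * n' : sgen a) : G)⁻¹ * b⁻¹
              = (n : G) * ((n' : G) * b * (n' : G)⁻¹ * b⁻¹) * (b * (n : G)⁻¹ * b⁻¹) := by
                rw [Subgroup.coe_mul]; group
            _ = (n' : G) * b * (n' : G)⁻¹ * b⁻¹ * (n : G) * (b * (n : G)⁻¹ * b⁻¹) := by rw [h]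
            _ = ((n' : G) * b * (n' : G)⁻¹ * b⁻¹) * ((n : G) * b * (n : G)⁻¹ * b⁻¹) := by group
            _ = ((n : G) * b * (n : G)⁻¹ * b⁻¹) * ((n' : G) * b * (n' : G)⁻¹ * b⁻¹) := by
                have h2 := stab_comm_sgen (mem_sgen hb) (hmem n')
                have h3 := stab_comm_sgen n.2 (hmem n')
                have h4 := stab_comm_sgen (inv_mem n.2) (hmem n')
                have h5 := stab_comm_sgen (inv_mem (mem_sgen hb)) (hmem n')
                exact (((Commute.mul_right (Commute.mul_right (Commute.mul_right h3 h2) h4) h5)) :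
                  Commute _ _).eq }
    have hker : ψ.ker = (Subgroup.centralizer ({b} : Set G)).subgroupOf (sgen a) := by
      ext n
      rw [MonoidHom.mem_ker, Subgroup.mem_subgroupOf, mem_cent_single, Subtype.ext_iff]
      show (n : G) * b * (n : G)⁻¹ * b⁻¹ = 1 ↔ _
      rw [mul_inv_eq_one, mul_inv_eq_iff_eq_mul]
    rw [← Subgroup.relIndex_eq_one]
    refine Nat.dvd_one.1 (hb ▸ Nat.dvd_gcd ?_ ?_)
    · exact ClassIndex.relIndex_dvd_index_of_normal_right _ _
    · rw [Subgroup.relIndex, ← hker, Subgroup.index_ker]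
      exact (Subgroup.card_subgroup_dvd_card _).trans (card_stab_dvd a)
  have hle : sgen a ≤ Subgroup.centralizer (sgen a : Set G) := by
    refine (Subgroup.closure_le _).2 fun b hb => ?_
    rw [SetLike.mem_coe, Subgroup.mem_centralizer_iff]
    intro s hs
    exact mem_cent_single.1 (key b hb hs)
  exact Subgroup.mem_centralizer_iff.1 (hle hk) n hn

/-- A subgroup of index prime to `p` contains a conjugate of any Sylow `p`-subgroup. -/
theorem exists_conj_sylow_le {p : ℕ} [Fact p.Prime] (P : Sylow p G) {C : Subgroup G}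
    (hC : ¬ p ∣ C.index) : ∃ x : G, ∀ y ∈ (P : Subgroup G), x * y * x⁻¹ ∈ C := by
  obtain ⟨Q⟩ : Nonempty (Sylow p C) := inferInstance
  have hQ : ¬ p ∣ ((Q : Subgroup C).map C.subtype).index := by
    rw [Subgroup.index_map_subtype]
    exact fun h => ((Fact.out : p.Prime).dvd_mul.1 h).elim Q.not_dvd_index hC
  obtain ⟨x, hx⟩ := MulAction.exists_smul_eq G P ((Q.2.map C.subtype).toSylow hQ)
  refine ⟨x, fun y hy => ?_⟩
  have h : x * y * x⁻¹ ∈ ((x • P : Sylow p G) : Subgroup G) := by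
    rw [Sylow.coe_subgroup_smul]
    have h' := Subgroup.smul_mem_pointwise_smul y (MulAut.conj x) _ hy
    rwa [MulAut.smul_def, MulAut.conj_apply] at h'
  rw [hx] at h
  obtain ⟨c, -, hc⟩ := h
  rw [← hc]
  exact c.2

/-- If a prime divides only class sizes prime to the largest, class sizes obey a dichotomy. -/
theorem exists_dichotomy_of_isolated {p : ℕ} [hp : Fact p.Prime] (hmax : ∀ g : G, sz g ≤ sz a)
    {g₀ : G} (hg₀ : p ∣ sz g₀) (hiso : ∀ g : G, p ∣ sz g → (sz g).Coprime (sz a)) :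
    ∃ e w : ℕ, 1 < w ∧ p ∣ e ∧ (∃ v : G, sz v = e) ∧ (∃ u : G, w ∣ sz u) ∧
      ∀ g : G, sz g ∣ e ∨ w ∣ sz g := by
  classical
  let N : Subgroup G := sgen a
  have hN : N.Normal := sgen_normal a
  have hin : ∀ g : G, p ∣ sz g → g ∈ N := fun g hg => mem_sgen (hiso g hg)
  have hpT : ¬ p ∣ Nat.card (stab a) := fun h =>
    hp.out.ne_one (Nat.eq_one_of_dvd_coprimes (hiso g₀ hg₀) hg₀ (h.trans (card_stab_dvd a)))
  have hcentN : ∀ g ∈ N, N ≤ Subgroup.centralizer ({g} : Set G) := fun g hg k hk =>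
    mem_cent_single.2 (sgen_abelian hmax hk hg)
  have hdvdN : ∀ g ∈ N, sz g ∣ N.index := fun g hg => Subgroup.index_dvd_of_le (hcentN g hg)
  obtain ⟨P⟩ : Nonempty (Sylow p G) := inferInstance
  let H : Subgroup G := Subgroup.centralizer ((P : Subgroup G) : Set G)
  have hH : ∀ {h : G}, h ∈ H ↔ ∀ y ∈ (P : Subgroup G), y * h = h * y := fun {h} =>
    Subgroup.mem_centralizer_iff
  -- every element outside `N` has a conjugate in `H`
  have hout : ∀ g ∉ N, ∃ x : G, x⁻¹ * g * x ∈ H := by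
    intro g hg
    obtain ⟨x, hx⟩ := exists_conj_sylow_le P (C := Subgroup.centralizer ({g} : Set G))
      (fun h => hg (hin g h))
    refine ⟨x, hH.2 fun y hy => ?_⟩
    have h := mem_cent_single.1 (hx y hy)
    calc y * (x⁻¹ * g * x) = x⁻¹ * (x * y * x⁻¹ * g) * x := by group
      _ = x⁻¹ * (g * (x * y * x⁻¹)) * x := by rw [h]
      _ = x⁻¹ * g * x * y := by group
  -- `P` is central modulo `N`
  have hPN : ∀ h : G, ∀ y ∈ (P : Subgroup G), h * y * h⁻¹ * y⁻¹ ∈ N := by
    have htop : (Subgroup.centralizer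
        ((QuotientGroup.mk' N) '' ((P : Subgroup G) : Set G))).comap (QuotientGroup.mk' N) = ⊤ := by
      refine ClassIndex.eq_top_of_conj_cover fun g => ?_
      by_cases hg : g ∈ N
      · refine ⟨1, ?_⟩
        rw [Subgroup.mem_comap, inv_one, one_mul, mul_one,
          show QuotientGroup.mk' N g = 1 from (QuotientGroup.eq_one_iff g).2 hg]
        exact one_mem _
      · obtain ⟨x, hx⟩ := hout g hg
        refine ⟨x, Subgroup.mem_centralizer_iff.2 ?_⟩
        rintro _ ⟨y, hy, rfl⟩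
        rw [← map_mul, ← map_mul, hH.1 hx y hy]
    intro h y hy
    have h1 : h ∈ (⊤ : Subgroup G) := Subgroup.mem_top h
    rw [← htop, Subgroup.mem_comap, Subgroup.mem_centralizer_iff] at h1
    have h2 := h1 _ ⟨y, hy, rfl⟩
    have h3 : QuotientGroup.mk' N (h * y * h⁻¹ * y⁻¹) = 1 := by
      rw [map_mul, map_mul, map_mul, map_inv, map_inv, ← h2]
      group
    exact (QuotientGroup.eq_one_iff _).1 h3
  -- elements of `N` normalising `P` centralise it
  have hNP : ∀ n ∈ N, n ∈ Subgroup.normalizer ((P : Subgroup G) : Set G) → n ∈ H := by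
    intro n hn hnn
    refine hH.2 fun y hy => ?_
    have h1 : n * y * n⁻¹ * y⁻¹ ∈ (P : Subgroup G) :=
      mul_mem ((Subgroup.mem_normalizer_iff.1 hnn y).1 hy) (inv_mem hy)
    have h2 : n * y * n⁻¹ * y⁻¹ ∈ stab a := by
      have h := sgen_comm hmax (inv_mem hn) y
      rw [inv_inv] at h
      have e : n * y * n⁻¹ * y⁻¹ = n * (y * n⁻¹ * y⁻¹) := by group
      rw [e]; exact h
    have h3 : orderOf (n * y * n⁻¹ * y⁻¹) = 1 := by
      obtain ⟨k, hk⟩ := IsPGroup.iff_orderOf.1 P.2 ⟨_, h1⟩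
      rw [← Subgroup.orderOf_coe] at hk
      have h4 : orderOf (n * y * n⁻¹ * y⁻¹) ∣ Nat.card (stab a) := Subgroup.orderOf_dvd_natCard _ h2
      rw [hk] at h4 ⊢
      exact Nat.Coprime.eq_one_of_dvd (((Nat.Prime.coprime_iff_not_dvd hp.out).2 hpT).pow_left k) h4
    rw [orderOf_eq_one_iff, mul_inv_eq_one, mul_inv_eq_iff_eq_mul] at h3
    exact h3.symm
  -- `G = N N_G(P)`
  have hfr : ∀ x : G, ∃ n ∈ N, ∃ h ∈ Subgroup.normalizer ((P : Subgroup G) : Set G), x = n * h := by
    haveI : ((P : Subgroup G) ⊔ N).Normal := by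
      refine ⟨fun z hz x => ?_⟩
      rw [Subgroup.mem_sup_of_normal_right] at hz ⊢
      obtain ⟨y, hy, n, hn, rfl⟩ := hz
      refine ⟨y, hy, y⁻¹ * (x * y * x⁻¹ * y⁻¹) * y * (x * n * x⁻¹), ?_, by group⟩
      refine mul_mem ?_ (hN.conj_mem n hn x)
      simpa using hN.conj_mem _ (hPN x y hy) y⁻¹
    have h : Subgroup.normalizer ((P : Subgroup G) : Set G) ⊔ ((P : Subgroup G) ⊔ N) = ⊤ :=
      P.normalizer_sup_eq_top' le_sup_left
    rw [← sup_assoc, sup_eq_left.2 Subgroup.le_normalizer] at h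
    intro x
    have hx : x ∈ Subgroup.normalizer ((P : Subgroup G) : Set G) ⊔ N := by rw [h]; exact Subgroup.mem_top x
    rw [sup_comm, Subgroup.mem_sup_of_normal_left] at hx
    obtain ⟨n, hn, k, hk, e⟩ := hx
    exact ⟨n, hn, k, hk, e.symm⟩
  -- `N_G(P) = C_G(P)`
  have hnorm : Subgroup.normalizer ((P : Subgroup G) : Set G) ≤ H := by
    intro h hh
    by_cases hhN : h ∈ N
    · exact hNP h hhN hh
    obtain ⟨x, hx⟩ := hout h hhN
    obtain ⟨n, hn, k, hk, rfl⟩ := hfr x
    have h1 : n⁻¹ * h * n ∈ H := by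
      have hk' : ∀ z ∈ H, k * z * k⁻¹ ∈ H := by
        intro z hz
        refine hH.2 fun y hy => ?_
        have hy' : k⁻¹ * y * k ∈ (P : Subgroup G) := by
          simpa using (Subgroup.mem_normalizer_iff.1 (inv_mem hk) y).1 hy
        calc y * (k * z * k⁻¹) = k * ((k⁻¹ * y * k) * z) * k⁻¹ := by group
          _ = k * (z * (k⁻¹ * y * k)) * k⁻¹ := by rw [hH.1 hz _ hy']
          _ = k * z * k⁻¹ * y := by group
      have e : n⁻¹ * h * n = k * ((n * k)⁻¹ * h * (n * k)) * k⁻¹ := by group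
      rw [e]; exact hk' _ hx
    have h2 : n⁻¹ * h * n * h⁻¹ ∈ N := by
      have e : n⁻¹ * h * n * h⁻¹ = n⁻¹ * (h * n * h⁻¹) := by group
      rw [e]; exact mul_mem (inv_mem hn) (hN.conj_mem n hn h)
    have h3 : n⁻¹ * h * n * h⁻¹ ∈ Subgroup.normalizer ((P : Subgroup G) : Set G) :=
      mul_mem (Subgroup.mem_normalizer_iff.2 fun y => by
        constructor
        · intro hy
          have : n⁻¹ * h * n * y * (n⁻¹ * h * n)⁻¹ = y := by rw [← hH.1 h1 y hy]; group
          rwa [this]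
        · intro hy
          have h5 := hH.1 (inv_mem h1) _ hy
          have : y = n⁻¹ * h * n * y * (n⁻¹ * h * n)⁻¹ := by
            calc y = (n⁻¹ * h * n)⁻¹ * (n⁻¹ * h * n * y * (n⁻¹ * h * n)⁻¹) * (n⁻¹ * h * n) := by group
              _ = n⁻¹ * h * n * y * (n⁻¹ * h * n)⁻¹ * (n⁻¹ * h * n)⁻¹ * (n⁻¹ * h * n) := by rw [← h5]
              _ = _ := by group
          rwa [this]) (inv_mem hh)
    have h4 := hNP _ h2 h3
    have e : h = (n⁻¹ * h * n * h⁻¹)⁻¹ * (n⁻¹ * h * n) := by group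
    rw [e]; exact mul_mem (inv_mem h4) h1
  have hNH : ∀ x : G, ∃ n ∈ N, ∃ h ∈ H, x = n * h := fun x => by
    obtain ⟨n, hn, k, hk, e⟩ := hfr x
    exact ⟨n, hn, k, hnorm hk, e⟩
  -- only `N ∩ H` in `N` commutes with an element of `H \ N`
  have hfree : ∀ h ∈ H, h ∉ N → ∀ v ∈ N, h * v = v * h → v ∈ H := by
    intro h hh hhN v hv hcomm
    let ψ : N →* N :=
      { toFun := fun u => ⟨(u : G)⁻¹ * (h * u * h⁻¹), mul_mem (inv_mem u.2) (hN.conj_mem u u.2 h)⟩
        map_one' := by ext; simp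
        map_mul' := fun u u' => by
          apply Subtype.ext
          show ((u : G) * u')⁻¹ * (h * ((u : G) * u') * h⁻¹) =
            (u : G)⁻¹ * (h * u * h⁻¹) * ((u' : G)⁻¹ * (h * u' * h⁻¹))
          have c : ((u' : G)⁻¹) * ((u : G)⁻¹ * (h * u * h⁻¹)) =
              ((u : G)⁻¹ * (h * u * h⁻¹)) * (u' : G)⁻¹ :=
            sgen_abelian hmax (inv_mem u'.2) (mul_mem (inv_mem u.2) (hN.conj_mem u u.2 h))
          calc ((u : G) * u')⁻¹ * (h * ((u : G) * u') * h⁻¹)
              = (u' : G)⁻¹ * ((u : G)⁻¹ * (h * u * h⁻¹)) * (h * u' * h⁻¹) := by group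
            _ = _ := by rw [c, mul_assoc] }
    let Z : Subgroup N := H.subgroupOf N
    haveI : Z.Normal := ⟨fun z hz u => by
      have : u * z * u⁻¹ = z := by
        apply Subtype.ext
        show (u : G) * z * (u : G)⁻¹ = z
        rw [sgen_abelian hmax u.2 z.2]; group
      rwa [this]⟩
    have hZ : Z ≤ Z.comap ψ := fun z hz => by
      rw [Subgroup.mem_comap, Subgroup.mem_subgroupOf]
      exact mul_mem (inv_mem hz) (mul_mem (mul_mem hh hz) (inv_mem hh))
    let f : N ⧸ Z →* N ⧸ Z := QuotientGroup.map Z Z ψ hZ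
    have hsurj : Function.Surjective f := by
      intro z
      obtain ⟨n, rfl⟩ := QuotientGroup.mk_surjective z
      have hnh : ((n : G)⁻¹ * h) ∉ N := fun hm => hhN (by simpa using mul_mem n.2 hm)
      obtain ⟨x, hx⟩ := hout _ hnh
      obtain ⟨u, hu, k, hk, rfl⟩ := hNH x
      refine ⟨((⟨u, hu⟩ : N) : N ⧸ Z), ?_⟩
      show ((ψ ⟨u, hu⟩ : N) : N ⧸ Z) = n
      rw [QuotientGroup.eq, Subgroup.mem_subgroupOf]
      show ((u : G)⁻¹ * (h * u * h⁻¹))⁻¹ * n ∈ H
      have h1 : u⁻¹ * ((n : G)⁻¹ * h) * u ∈ H := by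
        have e : u⁻¹ * ((n : G)⁻¹ * h) * u = k * ((u * k)⁻¹ * ((n : G)⁻¹ * h) * (u * k)) * k⁻¹ := by
          group
        rw [e]; exact mul_mem (mul_mem hk hx) (inv_mem hk)
      have hc : u * (n : G) = (n : G) * u := sgen_abelian hmax hu n.2
      have e : ((u : G)⁻¹ * (h * u * h⁻¹))⁻¹ * n = h * (u⁻¹ * ((n : G)⁻¹ * h) * u)⁻¹ := by
        calc _ = h * u⁻¹ * h⁻¹ * (u * (n : G)) := by group
          _ = h * u⁻¹ * h⁻¹ * ((n : G) * u) := by rw [hc]
          _ = _ := by group
      rw [e]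
      exact mul_mem hh (inv_mem h1)
    have hinj : Function.Injective f := Finite.injective_iff_surjective.2 hsurj
    have h1 : f ((⟨v, hv⟩ : N) : N ⧸ Z) = 1 := by
      show ((ψ ⟨v, hv⟩ : N) : N ⧸ Z) = 1
      have : ψ ⟨v, hv⟩ = 1 := by
        apply Subtype.ext
        show (v : G)⁻¹ * (h * v * h⁻¹) = 1
        rw [hcomm]; group
      rw [this]; rfl
    have h2 := (QuotientGroup.eq_one_iff _).1 (hinj (h1.trans (map_one f).symm))
    exact h2
  -- `w = |N : N ∩ H|`
  have hNnotH : ¬ N ≤ H := by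
    intro hle
    have hP : (P : Subgroup G) ≤ Subgroup.centralizer ({g₀} : Set G) := fun y hy =>
      mem_cent_single.2 (hH.1 (hle (hin g₀ hg₀)) y hy)
    exact P.not_dvd_index (hg₀.trans (Subgroup.index_dvd_of_le hP))
  obtain ⟨v, hvN, hvH⟩ := SetLike.not_le_iff_exists.1 hNnotH
  have hw : 1 < H.relIndex N := by
    have h1 : H.relIndex N ≠ 0 := Subgroup.index_ne_zero_of_finite
    have h2 : H.relIndex N ≠ 1 := fun h => hNnotH (Subgroup.relIndex_eq_one.1 h)
    omega
  have hwdvd : ∀ g ∉ N, H.relIndex N ∣ sz g := by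
    intro g hg
    obtain ⟨x, hx⟩ := hout g hg
    have hxN : x⁻¹ * g * x ∉ N := fun hm => hg (by
      have := hN.conj_mem _ hm x
      simpa [mul_assoc] using this)
    have hsz : sz (x⁻¹ * g * x) = sz g := by simpa using sz_conj x⁻¹ g
    rw [← hsz]
    refine dvd_trans ?_ (ClassIndex.relIndex_dvd_index_of_normal_right
      (Subgroup.centralizer ({x⁻¹ * g * x} : Set G)) N)
    rw [← Subgroup.inf_relIndex_right (Subgroup.centralizer ({x⁻¹ * g * x} : Set G))]
    refine Subgroup.relIndex_dvd_of_le_left _ ?_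
    intro z hz
    obtain ⟨hz1, hz2⟩ := Subgroup.mem_inf.1 hz
    exact hfree _ hx hxN z hz2 (mem_cent_single.1 hz1).symm
  have hve : sz v = N.index := by
    refine Nat.dvd_antisymm (hdvdN v hvN) (Subgroup.index_dvd_of_le fun c hc => ?_)
    obtain ⟨n, hn, h, hh, rfl⟩ := hNH c
    by_contra hcN
    have hhN : h ∉ N := fun hm => hcN (mul_mem hn hm)
    have h1 : h * v = v * h := by
      have h2 := mem_cent_single.1 hc
      have h3 : n * v = v * n := sgen_abelian hmax hn hvN
      refine mul_left_cancel (a := n) ?_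
      rw [← mul_assoc, h2, ← mul_assoc, ← mul_assoc, h3]
    exact hvH (hfree h hh hhN v hvN h1)
  have hex : ∃ u : G, u ∉ N := by
    by_contra hall
    push Not at hall
    have h1 : N.index = 1 := by
      rw [Subgroup.index_eq_one]; exact eq_top_iff.2 fun z _ => hall z
    have h2 := (hg₀.trans (hdvdN g₀ (hall g₀)))
    rw [h1] at h2
    exact hp.out.ne_one (Nat.dvd_one.1 h2)
  obtain ⟨u, hu⟩ := hex
  refine ⟨N.index, H.relIndex N, hw, hg₀.trans (hdvdN g₀ (hin g₀ hg₀)), ⟨v, hve⟩, ⟨u, hwdvd u hu⟩,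
    fun g => ?_⟩
  by_cases hg : g ∈ N
  · exact Or.inl (hdvdN g hg)
  · exact Or.inr (hwdvd g hg)

end Cfsg.Agent.ClassGraph
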