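import Cfsg.Agent.EqLemmas
import Cfsg.Agent.Lib.ClassGraph.MaxClass

/-!
# The diameter of the prime graph of class sizes (owner: helper34)

* `exists_short_path`: in a connected graph, any two vertices are `Near` along three steps.
-/

namespace Cfsg.Agent.ClassGraph

variable (G : Type*) [Group G]

/-- A vertex: a prime dividing some class size. -/
def Vert (p : ℕ) : Prop := p.Prime ∧ ∃ g : G, p ∣ sz g

/-- Equal or adjacent. -/
def Near (p q : ℕ) : Prop := p = q ∨ ∃ g : G, p * q ∣ sz g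

variable {G}

theorem near_refl (p : ℕ) : Near G p p := Or.inl rfl

theorem near_symm {p q : ℕ} (h : Near G p q) : Near G q p :=
  h.imp Eq.symm fun ⟨g, hg⟩ => ⟨g, mul_comm p q ▸ hg⟩

theorem near_of_dvd {p q : ℕ} (hp : p.Prime) (hq : q.Prime) {g : G} (h1 : p ∣ sz g) (h2 : q ∣ sz g) :
    Near G p q := by
  by_cases h : p = q
  · exact Or.inl h
  · exact Or.inr ⟨g, ((Nat.coprime_primes hp hq).2 h).mul_dvd_of_dvd_of_dvd h1 h2⟩

theorem exists_short_path [Finite G]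
    (hconn : ∀ S : Set ℕ, (∃ p ∈ S, Vert G p) → (∃ q ∉ S, Vert G q) →
      ∃ p q : ℕ, Vert G p ∧ Vert G q ∧ p ∈ S ∧ q ∉ S ∧ ∃ g : G, p * q ∣ sz g)
    {p q : ℕ} (hp : Vert G p) (hq : Vert G q) :
    ∃ c d : ℕ, Vert G c ∧ Vert G d ∧ Near G p c ∧ Near G c d ∧ Near G d q := by
  obtain ⟨a, ha⟩ := Finite.exists_max fun g : G => sz g
  by_cases hA : ∀ x, Vert G x → ∃ c, c.Prime ∧ c ∣ sz a ∧ Near G x c
  · obtain ⟨c, hc, hca, hpc⟩ := hA p hp
    obtain ⟨d, hd, hda, hqd⟩ := hA q hq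
    exact ⟨c, d, ⟨hc, a, hca⟩, ⟨hd, a, hda⟩, hpc, near_of_dvd hc hd hca hda, near_symm hqd⟩
  push Not at hA
  obtain ⟨p₀, ⟨hp₀, g₀, hg₀⟩, hfar⟩ := hA
  have := Fact.mk hp₀
  have hiso : ∀ g : G, p₀ ∣ sz g → (sz g).Coprime (sz a) := fun g hg =>
    Nat.coprime_of_dvd fun r hr h1 h2 => hfar r hr h2 (near_of_dvd hp₀ hr hg h1)
  obtain ⟨e, w, hw, hp₀e, ⟨v, hv⟩, ⟨u, hu⟩, hall⟩ := exists_dichotomy_of_isolated ha hg₀ hiso
  subst hv
  by_cases hB : ∀ x, Vert G x → x ∣ sz v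
  · exact ⟨p, q, hp, hq, near_refl p, near_of_dvd hp.1 hq.1 (hB p hp) (hB q hq), near_refl q⟩
  push Not at hB
  obtain ⟨x₀, hx₀, hx₀e⟩ := hB
  obtain ⟨t, s, ht, hs, hte, hse, g, hg⟩ :=
    hconn {x | x ∣ sz v} ⟨p₀, hp₀e, hp₀, g₀, hg₀⟩ ⟨x₀, hx₀e, hx₀⟩
  have hwg : w ∣ sz g := (hall g).resolve_left fun h => hse ((dvd_mul_left s t).trans (hg.trans h))
  let z := w.minFac
  have hz : z.Prime := Nat.minFac_prime hw.ne'
  have hzw : z ∣ w := Nat.minFac_dvd w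
  have hzV : Vert G z := ⟨hz, u, hzw.trans hu⟩
  have htz : Near G t z := near_of_dvd ht.1 hz ((dvd_mul_right t s).trans hg) (hzw.trans hwg)
  have key : ∀ x, Vert G x → Near G x t ∨ Near G x z := by
    rintro x ⟨hx, g', hg'⟩
    rcases hall g' with h | h
    · exact Or.inl (near_of_dvd hx ht.1 (hg'.trans h) hte)
    · exact Or.inr (near_of_dvd hx hz hg' (hzw.trans h))
  rcases key p hp with h1 | h1 <;> rcases key q hq with h2 | h2
  · exact ⟨t, t, ht, ht, h1, near_refl t, near_symm h2⟩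
  · exact ⟨t, z, ht, hzV, h1, htz, near_symm h2⟩
  · exact ⟨z, t, hzV, ht, h1, near_symm htz, near_symm h2⟩
  · exact ⟨z, z, hzV, hzV, h1, near_refl z, near_symm h2⟩

end Cfsg.Agent.ClassGraph
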